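import Groth.Agent.Refuted.K616.HesseDef
import Groth.Agent.AlgGrp.K401.PnAct
import Groth.Agent.Lefpen.H720.AffPt
import Groth.Prelude.Def_Red
import Groth.Prelude.Def_AlgGrp

/-!
# The group scheme `μ₃` acts on the Hesse cubic `X³ + Y³ + Z³ = XYZ`, with a monomorphic orbit map

`μ₃ = D(ℤ/3)` acts linearly by `(X : zY : z²Z)`; the orbit map of `(1 : -1 : 0)` is `z ↦ (1 : -z : 0)`.
* `zet g`: the coordinate `z` of a point `g` of `μ₃`, `zet_comp`, `zet_one`, `zet_mul`, `zet_pow`, `eq_of_zet`.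
* `exists_factor`: a morphism factors through a monomorphism if it does so locally on affine points.
* `H_eq_zero`, `exists_lift_up`: a point of `P²` with an invertible coordinate lies on the cubic iff the equation holds.
* `exists_act`: the action on points; `exists_orbit`, `P1b`: the section with a monomorphic orbit map.
-/

set_option autoImplicit false
universe u
open CategoryTheory CategoryTheory.Limits MonoidalCategory CartesianMonoidalCategory MonObj GrpObj AlgebraicGeometry

namespace K42.Hesse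

open CoactBr K443.PnUni K443.PnMor K401.CompDef K401.PnAct K401.RelHom K690.Chart K690.EqMat
open Groth.Agent.Refuted.K616 Groth.Agent.Lefpen.H720.AffPt

section mu

variable {k : Type u} [Field k] {C C' : Type u} [CommRing C] [Algebra k C] [CommRing C'] [Algebra k C']

/-- The algebra homomorphism of a point of `μ₃`. -/
noncomputable def ahom (g : sp k C ⟶ Red.diag k (ZMod 3)) : MonoidAlgebra k (Multiplicative (ZMod 3)) →ₐ[k] C :=
  (exists_pt g).choose

theorem pt_ahom (g : sp k C ⟶ Red.diag k (ZMod 3)) : pt (ahom g) = g := (exists_pt g).choose_spec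

theorem ahom_pt (f : MonoidAlgebra k (Multiplicative (ZMod 3)) →ₐ[k] C) : ahom (pt f) = f :=
  pt_injective (pt_ahom _)

/-- The tautological element of the group algebra. -/
noncomputable def tau (k : Type u) [Field k] : MonoidAlgebra k (Multiplicative (ZMod 3)) :=
  MonoidAlgebra.single (Multiplicative.ofAdd 1) 1

/-- The coordinate of a point of `μ₃`. -/
noncomputable def zet (g : sp k C ⟶ Red.diag k (ZMod 3)) : C := ahom g (tau k)

theorem zet_pt (f : MonoidAlgebra k (Multiplicative (ZMod 3)) →ₐ[k] C) : zet (pt f) = f (tau k) := by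
  rw [zet, ahom_pt]

theorem zet_comp (γ : C →ₐ[k] C') (g : sp k C ⟶ Red.diag k (ZMod 3)) : zet (pt γ ≫ g) = γ (zet g) := by
  obtain ⟨f, rfl⟩ := exists_pt g
  rw [← pt_comp, zet_pt, zet_pt]
  rfl

theorem zet_one : zet (1 : sp k C ⟶ Red.diag k (ZMod 3)) = 1 := by
  rw [one_eq_pt, zet_pt, AlgHom.comp_apply]
  have h : Bialgebra.counitAlgHom k (MonoidAlgebra k (Multiplicative (ZMod 3))) (tau k) = 1 := by
    simp [tau]
  rw [h, map_one]

theorem zet_mul (g h : sp k C ⟶ Red.diag k (ZMod 3)) : zet (g * h) = zet g * zet h := by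
  obtain ⟨a, rfl⟩ := exists_pt g
  obtain ⟨b, rfl⟩ := exists_pt h
  rw [pt_mul_pt, zet_pt, zet_pt, zet_pt, AlgHom.comp_apply]
  have h : Bialgebra.comulAlgHom k (MonoidAlgebra k (Multiplicative (ZMod 3))) (tau k) =
      TensorProduct.tmul k (tau k) (tau k) := by
    simp [tau]
  rw [h, Algebra.TensorProduct.lift_tmul]

theorem tau_pow (n : ℕ) : tau k ^ n = MonoidAlgebra.single (Multiplicative.ofAdd (n : ZMod 3)) 1 := by
  rw [tau, MonoidAlgebra.single_pow, one_pow, ← ofAdd_nsmul, nsmul_one]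

theorem zet_pow (g : sp k C ⟶ Red.diag k (ZMod 3)) : zet g ^ 3 = 1 := by
  rw [zet, ← map_pow, tau_pow]
  have h : MonoidAlgebra.single (Multiplicative.ofAdd ((3 : ℕ) : ZMod 3)) (1 : k) = 1 := by
    rw [ZMod.natCast_self, ofAdd_zero]
    rfl
  rw [h, map_one]

theorem isUnit_zet (g : sp k C ⟶ Red.diag k (ZMod 3)) : IsUnit (zet g) :=
  IsUnit.of_mul_eq_one (zet g ^ 2) (by rw [← pow_succ', zet_pow])

theorem eq_of_zet {g h : sp k C ⟶ Red.diag k (ZMod 3)} (e : zet g = zet h) : g = h := by
  rw [← pt_ahom g, ← pt_ahom h]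
  congr 1
  refine MonoidAlgebra.algHom_ext (fun m => ?_) (Subsingleton.elim _ _)
  have hm : MonoidAlgebra.single m (1 : k) = tau k ^ (ZMod.val (Multiplicative.toAdd m)) := by
    rw [tau_pow, ZMod.natCast_zmod_val]
    rfl
  rw [hm, map_pow, map_pow]
  congr 1

/-- The diagonal representation with weights `0, 1, 2`. -/
noncomputable def rep (k : Type u) [Field k] : MatRep k (Red.diag k (ZMod 3)) (2 + 1) where
  c g := Matrix.diagonal fun i => zet g ^ (i : ℕ)
  c_map γ g := by
    rw [Matrix.diagonal_map (map_zero γ)]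
    congr 1
    funext i
    simp [zet_comp]
  c_one := by
    simp [zet_one]
  c_mul g h := by
    rw [Matrix.diagonal_mul_diagonal]
    congr 1
    funext i
    rw [zet_mul, mul_pow]

end mu

section factor

variable {k : Type u} [Field k] {X Z W : Over (Spec (CommRingCat.of k))}

/-- A morphism factors through a monomorphism if it does so locally on affine points. -/
theorem exists_factor (i : Z ⟶ W) [Mono i] (f : X ⟶ W)
    (loc : ∀ (C : Type u) [CommRing C] [Algebra k C] (x : sp k C ⟶ X) (p : PrimeSpectrum C), ∃ g : C, g ∉ p.asIdeal ∧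
      ∃ z : sp k (Localization.Away g) ⟶ Z, z ≫ i = pt (IsScalarTower.toAlgHom k C (Localization.Away g)) ≫ x ≫ f) :
    ∃ h : X ⟶ Z, h ≫ i = f := by
  obtain ⟨h, hh⟩ := exists_hom_zar (X := X) (Z := Z) (fun C _ _ x z => z ≫ i = x ≫ f)
    (by
      intro C C' _ _ _ _ φ x z hz
      rw [Category.assoc, hz, Category.assoc])
    (by
      intro C _ _ x z z' hz hz'
      rw [← cancel_mono i, hz, hz'])
    (by
      intro C _ _ x p
      obtain ⟨g, hg, z, hz⟩ := loc C x p
      exact ⟨g, hg, z, by rw [hz, Category.assoc]⟩)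
  refine ⟨h, ?_⟩
  refine hom_ext_sp fun C _ _ x => ?_
  have key : ∀ p : PrimeSpectrum C, ∃ g' : C, g' ∉ p.asIdeal ∧
      pt (IsScalarTower.toAlgHom k C (Localization.Away g')) ≫ x ≫ h ≫ i =
        pt (IsScalarTower.toAlgHom k C (Localization.Away g')) ≫ x ≫ f := by
    intro p
    obtain ⟨g, hg, z, hz⟩ := loc C x p
    refine ⟨g, hg, ?_⟩
    have h1 := hh _ (pt (IsScalarTower.toAlgHom k C (Localization.Away g)) ≫ x) z (by rw [hz, Category.assoc])
    rw [← hz, ← h1]
    simp only [Category.assoc]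
  choose g' hg' hk using key
  refine hom_ext_family (fun p : PrimeSpectrum C => pt (IsScalarTower.toAlgHom k C (Localization.Away (g' p))))
    (Cov.zariski _ (fun p => ?_) fun x => ⟨x, ?_⟩) hk
  · exact inferInstanceAs (IsOpenImmersion (Spec.map (CommRingCat.ofHom
      (algebraMap C (Localization.Away (g' p))))))
  · have h5 := PrimeSpectrum.localization_away_comap_range (Localization.Away (g' x)) (g' x)
    have h6 : x ∈ Set.range (PrimeSpectrum.comap (algebraMap C (Localization.Away (g' x)))) := by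
      rw [h5]
      exact hg' x
    exact h6

/-- Near every point, an affine point of projective space has homogeneous coordinates, one of them invertible. -/
theorem exists_local_up' {n : ℕ} {C : Type u} [CommRing C] [Algebra k C] (x : sp k C ⟶ Pn k n) (p : PrimeSpectrum C) :
    ∃ g : C, g ∉ p.asIdeal ∧ ∃ (v : Fin (n + 1) → Localization.Away g) (i : Fin (n + 1)) (hi : IsUnit (v i)),
      pt (IsScalarTower.toAlgHom k C (Localization.Away g)) ≫ x = up v (isUni_of_isUnit hi) := by
  obtain ⟨g, hg, j, v, i, hi, h⟩ := exists_local_jPt (x.left : Spec (CommRingCat.of C) ⟶ CohB1.ProjSpace n k) p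
  have hj : j = algebraMap k (Localization.Away g) := by
    have h2 : (x.left : Spec (CommRingCat.of C) ⟶ CohB1.ProjSpace n k) ≫ CohB1.ProjSpace.toSpec n k =
        Spec.map (CommRingCat.ofHom (algebraMap k C)) := Over.w x
    have h3 : Spec.map (CommRingCat.ofHom (algebraMap C (Localization.Away g))) ≫
        Spec.map (CommRingCat.ofHom (algebraMap k C)) = Spec.map (CommRingCat.ofHom j) := by
      rw [← h2, ← jPt_toSpec j v i hi, ← h, Category.assoc]
      rfl
    rw [← Spec.map_comp, Spec.map_inj] at h3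
    have h4 : (algebraMap C (Localization.Away g)).comp (algebraMap k C) = j := congr(($h3).hom)
    rw [← h4, ← IsScalarTower.algebraMap_eq]
  subst hj
  refine ⟨g, hg, v, i, hi, ?_⟩
  ext1
  rw [Over.comp_left, pt_left, up_left, uPt_eq_jPt _ _ _ i hi]
  exact h

end factor

section hesse

variable {k : Type u} [Field k] {C : Type u} [CommRing C] [Algebra k C]

/-- The embedding of the Hesse cubic. -/
noncomputable def emb (k : Type u) [Field k] : Groth.Agent.Refuted.K616.C k ⟶ Pn k 2 :=
  Over.homMk (LefPen.hypIdeal (hesse k)).subschemeι rfl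

instance : Mono (emb k) := by
  have : Mono (emb k).left := inferInstanceAs (Mono (LefPen.hypIdeal (hesse k)).subschemeι)
  exact Over.mono_of_mono_left (emb k)

/-- The Hesse form. -/
def H (v : Fin (2 + 1) → C) : C := v 0 ^ 3 + v 1 ^ 3 + v 2 ^ 3 - v 0 * v 1 * v 2

theorem H_smul (c : C) (v : Fin (2 + 1) → C) : H (c • v) = c ^ 3 * H v := by
  simp only [H, Pi.smul_apply, smul_eq_mul]
  ring

theorem aeval_hesse (v : Fin (2 + 1) → C) : MvPolynomial.aeval v (hesse k).1 = H v := by
  simp [hesse_val, H]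

/-- The affine coordinates in the chart of an invertible coordinate. -/
noncomputable def affc (v : Fin (2 + 1) → C) (i : Fin (2 + 1)) (hi : IsUnit (v i)) : Fin 2 → C :=
  fun l => ((hi.unit⁻¹ : Cˣ) : C) * v (i.succAbove l)

theorem aeval_affc (v : Fin (2 + 1) → C) (i : Fin (2 + 1)) (hi : IsUnit (v i)) (p : MvPolynomial (Fin (2 + 1)) k) :
    MvPolynomial.aeval (affc v i hi) (Groth.Agent.Sga5.ProjChart.dehom 2 k i p) =
      MvPolynomial.aeval (((hi.unit⁻¹ : Cˣ) : C) • v) p := by
  have h : ((MvPolynomial.aeval (affc v i hi) : MvPolynomial (Fin 2) k →ₐ[k] C).toRingHom.comp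
      (Groth.Agent.Sga5.ProjChart.dehom 2 k i)) =
      (MvPolynomial.aeval (((hi.unit⁻¹ : Cˣ) : C) • v) : MvPolynomial (Fin (2 + 1)) k →ₐ[k] C).toRingHom := by
    apply MvPolynomial.ringHom_ext
    · intro c
      simp
    · intro l
      obtain rfl | ⟨m, rfl⟩ := Fin.eq_self_or_eq_succAbove i l
      · simp [hi.val_inv_mul]
      · simp [affc]
  exact congr($h p)

/-- The point with an invertible coordinate, in affine coordinates. -/
theorem up_eq_apt (v : Fin (2 + 1) → C) (i : Fin (2 + 1)) (hi : IsUnit (v i)) :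
    (up (k := k) v (isUni_of_isUnit hi)).left = apt i (affc v i hi) := by
  rw [up_left, uPt_eq_jPt _ _ _ i hi]
  have h1 : jPt (algebraMap k C) v i hi = Spec.map (CommRingCat.ofHom
      ((MvPolynomial.eval₂Hom (algebraMap k C) (fun j => ((hi.unit⁻¹ : Cˣ) : C) * v (i.succAbove j))).comp
        (Groth.Agent.Sga5.ProjChart.chartEquiv 2 k i).symm.toRingHom)) ≫ Groth.Agent.Sga7.H132.ProjPts.chart 2 k i := rfl
  rw [h1, apt]
  rw [CommRingCat.ofHom_comp, Spec.map_comp, Category.assoc]
  rfl

/-- The coordinates of a point of the cubic satisfy the equation. -/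
theorem H_eq_zero (v : Fin (2 + 1) → C) (i : Fin (2 + 1)) (hi : IsUnit (v i)) (y : sp k C ⟶ Groth.Agent.Refuted.K616.C k)
    (hy : y ≫ emb k = up v (isUni_of_isUnit hi)) : H v = 0 := by
  have h0 : y.left ≫ (LefPen.hypIdeal (hesse k)).subschemeι = apt i (affc v i hi) := by
    rw [← up_eq_apt, ← hy]
    rfl
  have h1 := dehom_eq_zero (hesse k) i (affc v i hi) y.left h0
  rw [aeval_affc, aeval_hesse, H_smul] at h1
  have h2 : IsUnit ((((hi.unit⁻¹ : Cˣ) : C)) ^ 3) := (hi.unit⁻¹).isUnit.pow 3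
  exact (h2.mul_right_eq_zero).1 h1

/-- A point whose coordinates satisfy the equation lies on the cubic. -/
theorem exists_lift_up (v : Fin (2 + 1) → C) (i : Fin (2 + 1)) (hi : IsUnit (v i)) (hv : H v = 0) :
    ∃ y : sp k C ⟶ Groth.Agent.Refuted.K616.C k, y ≫ emb k = up v (isUni_of_isUnit hi) := by
  obtain ⟨g, hg⟩ := exists_lift_apt (hesse k) i (affc v i hi) (by
    rw [aeval_affc, aeval_hesse, H_smul, hv, mul_zero])
  refine ⟨Over.homMk g ?_, ?_⟩
  · change g ≫ (LefPen.hypIdeal (hesse k)).subschemeι ≫ CohB1.ProjSpace.toSpec 2 k = _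
    rw [← Category.assoc, hg, apt_toSpec]
    rfl
  · apply Over.OverMorphism.ext
    exact (show g ≫ (LefPen.hypIdeal (hesse k)).subschemeι = _ from hg).trans (up_eq_apt v i hi).symm

end hesse

section act

variable {k : Type u} [Field k] {C : Type u} [CommRing C] [Algebra k C]

theorem H_diag (z : C) (hz : z ^ 3 = 1) (v : Fin (2 + 1) → C) :
    H ((Matrix.diagonal fun i : Fin (2 + 1) => z ^ (i : ℕ)).mulVec v) = H v := by
  have h0 : ∀ i, (Matrix.diagonal fun i : Fin (2 + 1) => z ^ (i : ℕ)).mulVec v i = z ^ (i : ℕ) * v i :=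
    fun i => Matrix.mulVec_diagonal _ _ _
  have h6 : z ^ 6 = 1 := by
    calc z ^ 6 = (z ^ 3) ^ 2 := by ring
      _ = 1 := by rw [hz, one_pow]
  simp only [H, h0]
  simp only [Fin.val_zero, Fin.val_one, Fin.val_two, pow_zero, pow_one]
  linear_combination (v 1 ^ 3) * hz + (v 2 ^ 3) * h6 - (v 0 * v 1 * v 2) * hz

/-- The action on the cubic. -/
theorem exists_act : ∃ a : AlgGrp.Action (Red.diag k (ZMod 3)) (Groth.Agent.Refuted.K616.C k),
    ∀ (C : Type u) [CommRing C] [Algebra k C] (g : sp k C ⟶ Red.diag k (ZMod 3))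
      (y : sp k C ⟶ Groth.Agent.Refuted.K616.C k) (v : Fin (2 + 1) → C) (i : Fin (2 + 1)) (hi : IsUnit (v i))
      (hw : IsUni ((Matrix.diagonal fun i : Fin (2 + 1) => zet g ^ (i : ℕ)).mulVec v)),
      y ≫ emb k = up v (isUni_of_isUnit hi) →
      lift g y ≫ a.act ≫ emb k = up ((Matrix.diagonal fun i : Fin (2 + 1) => zet g ^ (i : ℕ)).mulVec v) hw := by
  obtain ⟨b, hb⟩ := exists_pnAct (rep k)
  obtain ⟨f, hf⟩ := exists_factor (emb k) ((Red.diag k (ZMod 3) ◁ emb k) ≫ b.act) (by
    intro C _ _ x p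
    obtain ⟨g, hg, v, i, hi, h⟩ := exists_local_up' (x ≫ snd _ _ ≫ emb k) p
    refine ⟨g, hg, ?_⟩
    let α := pt (IsScalarTower.toAlgHom k C (Localization.Away g))
    have hy : (α ≫ x ≫ snd _ _) ≫ emb k = up v (isUni_of_isUnit hi) := by
      rw [Category.assoc, Category.assoc]
      exact h
    have hH := H_eq_zero v i hi _ hy
    let t : sp k (Localization.Away g) ⟶ Red.diag k (ZMod 3) := α ≫ x ≫ fst _ _
    let w := (Matrix.diagonal fun i : Fin (2 + 1) => zet t ^ (i : ℕ)).mulVec v
    have hwi : IsUnit (w i) := by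
      have : w i = zet t ^ (i : ℕ) * v i := Matrix.mulVec_diagonal _ _ _
      rw [this]
      exact ((isUnit_zet t).pow _).mul hi
    obtain ⟨z, hz⟩ := exists_lift_up (k := k) w i hwi (by rw [H_diag _ (zet_pow t), hH])
    refine ⟨z, ?_⟩
    have hb' := hb _ t v (isUni_of_isUnit hi) (isUni_of_isUnit hwi)
    have h3 : lift t ((α ≫ x ≫ snd _ _) ≫ emb k) = (α ≫ x) ≫ (Red.diag k (ZMod 3) ◁ emb k) := by
      apply CartesianMonoidalCategory.hom_ext
      · simp [t]
      · simp
    refine hz.trans (Eq.trans hb'.symm ?_)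
    rw [← hy, h3]
    simp only [Category.assoc]
    rfl)
  refine ⟨⟨f, ?_, ?_⟩, ?_⟩
  · rw [← cancel_mono (emb k), Category.assoc, hf, ← whisker_exchange_assoc, b.one_act,
      MonoidalCategory.leftUnitor_naturality]
  · rw [← cancel_mono (emb k), Category.assoc, hf]
    rw [← whisker_exchange_assoc, b.mul_act]
    simp only [Category.assoc, hf]
    rw [← MonoidalCategory.whiskerLeft_comp_assoc, hf, MonoidalCategory.whiskerLeft_comp_assoc,
      MonoidalCategory.tensor_whiskerLeft_symm_assoc, Iso.hom_inv_id_assoc]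
  · intro C _ _ g y v i hi hw hy
    rw [hf, lift_whiskerLeft_assoc, hy, hb]
    rfl

/-- A section of the cubic whose orbit map under some action of `μ₃` is a monomorphism. -/
theorem exists_orbit (k : Type u) [Field k] :
    ∃ (o : 𝟙_ (Over (Spec (CommRingCat.of k))) ⟶ Groth.Agent.Refuted.K616.C k)
      (a : AlgGrp.Action (Red.diag k (ZMod 3)) (Groth.Agent.Refuted.K616.C k)), Mono (a.orbitMap o) := by
  obtain ⟨a, ha⟩ := exists_act (k := k)
  have h0 : IsUnit ((![1, -1, 0] : Fin (2 + 1) → k) 0) := by simp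
  obtain ⟨y, hy⟩ := exists_lift_up (k := k) ![1, -1, 0] 0 h0 (by
    simp only [H, Matrix.cons_val_zero, Matrix.cons_val_one, Matrix.cons_val]
    ring)
  let e : 𝟙_ (Over (Spec (CommRingCat.of k))) ⟶ sp k k := Over.homMk (𝟙 _) (by
    have h : Spec.map (CommRingCat.ofHom (algebraMap k k)) = 𝟙 (Spec (CommRingCat.of k)) := Spec.map_id _
    change 𝟙 _ ≫ Spec.map (CommRingCat.ofHom (algebraMap k k)) = 𝟙 _
    rw [h, Category.comp_id])
  let o := e ≫ y
  refine ⟨o, a, ?_⟩
  have h2 : ∀ (C : Type u) [CommRing C] [Algebra k C] (z : C), IsUnit ((![1, -z, 0] : Fin (2 + 1) → C) 0) := by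
    intro C _ _ z
    simp
  have key : ∀ (C : Type u) [CommRing C] [Algebra k C] (t : sp k C ⟶ Red.diag k (ZMod 3)),
      (t ≫ a.orbitMap o) ≫ emb k = up ![1, -zet t, 0] (isUni_of_isUnit (h2 C (zet t))) := by
    intro C _ _ t
    have he : toUnit (sp k C) ≫ e = pt (Algebra.ofId k C) := by
      ext1
      change Spec.map (CommRingCat.ofHom (algebraMap k C)) ≫ 𝟙 _ = _
      rw [Category.comp_id]
      rfl
    have h3 : IsUnit ((⇑(Algebra.ofId k C) ∘ (![1, -1, 0] : Fin (2 + 1) → k)) 0) := by simp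
    have hyt : (pt (Algebra.ofId k C) ≫ y) ≫ emb k =
        up (⇑(Algebra.ofId k C) ∘ (![1, -1, 0] : Fin (2 + 1) → k)) (isUni_of_isUnit h3) := by
      rw [Category.assoc, hy, comp_up]
    have h1 : t ≫ a.orbitMap o = lift t (pt (Algebra.ofId k C) ≫ y) ≫ a.act := by
      rw [AlgGrp.Action.orbitMap, ← Category.assoc, comp_lift, Category.comp_id]
      congr 2
      rw [← he]
      simp [o]
    have h5 : (Matrix.diagonal fun i : Fin (2 + 1) => zet t ^ (i : ℕ)).mulVec
        (⇑(Algebra.ofId k C) ∘ (![1, -1, 0] : Fin (2 + 1) → k)) = ![1, -zet t, 0] := by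
      funext i
      rw [Matrix.mulVec_diagonal]
      fin_cases i <;> simp
    have h6 := ha C t _ _ 0 h3 (h5 ▸ isUni_of_isUnit (h2 C (zet t))) hyt
    rw [h1, Category.assoc]
    exact h6.trans (up_congr h5 _ _)
  constructor
  intro Z f g hfg
  refine hom_ext_sp fun C _ _ s => ?_
  apply eq_of_zet
  have e1 := key C (s ≫ f)
  have e2 := key C (s ≫ g)
  have e4 : (s ≫ f) ≫ a.orbitMap o = (s ≫ g) ≫ a.orbitMap o := by
    rw [Category.assoc, Category.assoc, hfg]
  rw [e4] at e1
  obtain ⟨c, hc⟩ := (up_eq_iff _ _ _ _).1 (e1.symm.trans e2)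
  have c0 := congr_fun hc 0
  have c1 := congr_fun hc 1
  simp only [Pi.smul_apply, Matrix.cons_val_zero, Matrix.cons_val_one, smul_eq_mul] at c0 c1
  have c2 : (c : C) = 1 := (c0.trans (_root_.mul_one (c : C))).symm
  rw [c2, _root_.one_mul, neg_inj] at c1
  exact c1.symm

/-- The action of `μ₃` on the cubic and the section (node P1b). -/
theorem P1b (k : Type u) [Field k] [CharP k 3] :
    ∃ (o : 𝟙_ (Over (Spec (CommRingCat.of k))) ⟶ Groth.Agent.Refuted.K616.C k)
      (a : AlgGrp.Action (Red.diag k (ZMod 3)) (Groth.Agent.Refuted.K616.C k)), Mono (a.orbitMap o) :=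
  exists_orbit k

end act

end K42.Hesse
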